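import Mathlib
import Cfsg.Prelude.Def_FusionSystem
import Cfsg.Prelude.Def_FusionComponents
import Cfsg.Agent.Lib.Helper3.PPrimeRes
import Cfsg.Agent.Lib.Helper25.FusionInvariant
import Cfsg.Agent.Lib.Helper26.FusionRestrict

/-!
# S5142 (design lead + helper25): `O^{p'}(E) ≤ D'` for `E, D'` normal in `F` over the same `T`

PLAN.  `I := interSys E D'` (maps of `E` that are maps of `D'`).  We show `Adm E p I`
(`Helper3.PPrimeRes.Adm`), hence `D ≤ minSys E p ≤ I ≤ D'`.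
* `Adm.op`: a `p`-element `γ` of `Aut_E(P)` is `E`-conjugate (Sylow, `E` saturated) to some `c_t`,
  `t ∈ N_T(P')`, which is a map of `D'`; strong invariance of `D'` in `F` (`pull_aut`) pulls it back.
* `Adm.ext`: `ψ ∈ E.Hom R`, `P ≤ R` `E`-centric, `ψ|P ∈ D'`.  By S5114 for `I ≤ E`: `ψ = α ∘ ψ₀`,
  `α ∈ Aut_E(T)`, `ψ₀ ∈ I`; then `α|ψ₀(P) ∈ D'` and `star_gen` gives `α ∈ Aut_{D'}(T)`.
* `star` (KEY, replaces the false "two extensions differ by c_z" step): `a ∈ Aut_F(T)` with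
  `a ^ m = 1`, `p ∤ m`, `X` saturated and invariant in `F` over `T`, `Q` `X`-centric, `a|Q ∈ X`
  ⟹ `a ∈ Aut_X(T)`.  One step `Q → N := N_T(Q)`: `a|Q` extends in `X` to `ε₁` on `N` (receptive);
  `θ := ε₁⁻¹ ∘ a|N ∈ Aut(N)` fixes `Q` and moves `g` by an element of `Q`, so `θ` has `p`-power order;
  by invariance `a^i|N = Ε_i ∘ θ^i` with `Ε_i ∈ X` (`pow_decomp`); at `i = m`: `θ^m = Ε_m⁻¹ ∈ Aut_X(N)`,
  so `θ ∈ Aut_X(N)` and `a|N = ε₁ ∘ θ ∈ X`.
-/

set_option autoImplicit false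

namespace Cfsg.Agent.Helper25.OPE

open Cfsg Cfsg.FusionSystem Cfsg.Agent.Helper25 Cfsg.Agent.Helper26 Cfsg.Agent.Helper3.PPrimeRes

variable {Ω : Type*} [Group Ω] {S : Subgroup Ω}

/-- `E ∩ D'`: the maps of `E` that are also maps of `D'` (both over `T`). -/
def interSys {T : Subgroup Ω} (E D' : FusionSystem T) : FusionSystem T :=
  predSub E (fun P φ => φ ∈ D'.Hom P) (fun hP hg => D'.conj_mem hP hg)
    (fun _ _ h1 h2 h => D'.comp_mem h1 h2 h)
    (by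
      intro P φ _ h1 ψ _ hinv
      obtain ⟨ψ', hψ', hinv'⟩ := D'.inv_mem h1
      have : ψ = ψ' := by
        ext ⟨_, x, rfl⟩
        rw [hinv, hinv']
      rw [this]; exact hψ')

theorem mem_interSys {T : Subgroup Ω} {E D' : FusionSystem T} {P : Subgroup Ω} {φ : P →* Ω} :
    φ ∈ (interSys E D').Hom P ↔ φ ∈ E.Hom P ∧ φ ∈ D'.Hom P := Iff.rfl

/-- The restriction of an automorphism `a` of `T` to `Q ≤ T`, as a map into `Ω`. -/
def resAut {T : Subgroup Ω} (a : MulAut T) (Q : Subgroup Ω) (hQT : Q ≤ T) : Q →* Ω :=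
  (T.subtype.comp a.toMonoidHom).comp (Subgroup.inclusion hQT)

theorem resAut_apply {T : Subgroup Ω} (a : MulAut T) (Q : Subgroup Ω) (hQT : Q ≤ T) (x : Q) :
    resAut a Q hQT x = ((a ⟨x, hQT x.2⟩ : T) : Ω) := rfl

theorem resAut_mem_T {T : Subgroup Ω} (a : MulAut T) (Q : Subgroup Ω) (hQT : Q ≤ T) (x : Q) :
    resAut a Q hQT x ∈ T := (a ⟨x, hQT x.2⟩ : T).2

/-- `a ∈ Aut_X(T)` iff its "restriction" to `T` is a map of `X`. -/
theorem resAut_top_mem_iff {T : Subgroup Ω} (X : FusionSystem T) (a : MulAut T) :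
    resAut a T le_rfl ∈ X.Hom T ↔ a ∈ X.autGroup T := by
  rw [mem_autGroup_iff X le_rfl]
  have : resAut a T le_rfl = T.subtype.comp a.toMonoidHom := by
    ext x; rfl
  rw [this]

/-- The restriction of a map of `F` on `T` is a map of `F`. -/
theorem resAut_mem_of_mem_autGroup (F : FusionSystem S) {T : Subgroup Ω} (hTS : T ≤ S) {a : MulAut T}
    (ha : a ∈ F.autGroup T) (Q : Subgroup Ω) (hQT : Q ≤ T) : resAut a Q hQT ∈ F.Hom Q :=
  restrict_mem F hQT ((mem_autGroup_iff F hTS a).mp ha)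

end Cfsg.Agent.Helper25.OPE
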