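import Mathlib
import Cfsg.Agent.Lib.OPE.OPEDefs

/-!
# S5142 piece OPE-PULL: pulling an automorphism of an invariant subsystem back along a map of `F`
`X` invariant in `F` over `T`; `ψ ∈ F.Hom P`; `c ∈ X.Hom ψ.range` (so `ψ.range ≤ T`) and `γ : MulAut P`
with `c (ψ x) = ψ (γ x)` (i.e. `γ = ψ⁻¹ c ψ`).  Then `γ ∈ Aut_X(P)` (as a map `P →* Ω`).
RECIPE.  `hSI := strongInv_of_isInvariantIn F X hinv` (`Helper25.StrongInv`).  `F.inv_mem hψ` gives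
`ψ' ∈ F.Hom ψ.range` with `ψ' (ψ x) = x`.  `c` has values in `ψ.range` (by `h`).  Apply
`hSI ψ.range ψ.range le_rfl (ψ.range ≤ T) c hc _ ψ' hψ'`: some `χ ∈ X.Hom ((ψ.range.subgroupOf ψ.range).map ψ')`
with `χ (ψ' y) = ψ' (c y)`.  Every `x ∈ P` is `ψ' (ψ x)`, so `P ≤ (ψ.range.subgroupOf ψ.range).map ψ'`;
`restrict_mem X` that inclusion, and the restricted map is `P.subtype.comp γ.toMonoidHom` (`ext x`:
`χ x = χ (ψ' (ψ x)) = ψ' (c (ψ x)) = ψ' (ψ (γ x)) = γ x`; use `Helper25.hom_congr_val` to move between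
equal elements of a subgroup).  Aux names: prefix `opepull_`.
-/

set_option autoImplicit false

namespace Cfsg.Agent.Helper25.OPE

open Cfsg Cfsg.FusionSystem Cfsg.Agent.Helper25 Cfsg.Agent.Helper26 Cfsg.Agent.Helper3.PPrimeRes

variable {Ω : Type*} [Group Ω] {S : Subgroup Ω}

theorem pull_aut (F : FusionSystem S) {T : Subgroup Ω} (X : FusionSystem T)
    (hinv : X.IsInvariantIn F) {P : Subgroup Ω} {ψ : P →* Ω} (hψ : ψ ∈ F.Hom P)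
    {c : ψ.range →* Ω} (hc : c ∈ X.Hom ψ.range) (γ : MulAut P)
    (h : ∀ x : P, c ⟨ψ x, ⟨x, rfl⟩⟩ = ψ (γ x)) : P.subtype.comp γ.toMonoidHom ∈ X.Hom P := by
  have hSI : StrongInv F X := strongInv_of_isInvariantIn hinv
  obtain ⟨ψ', hψ', hψ'v⟩ := F.inv_mem hψ
  have hRT : ψ.range ≤ T := (X.le_of_mem hc).1
  have hcR : ∀ y : ψ.range, c y ∈ ψ.range := by
    rintro ⟨_, x, rfl⟩
    rw [h x]; exact ⟨γ x, rfl⟩
  obtain ⟨χ, hχ, hχv⟩ := hSI ψ.range ψ.range le_rfl hRT c hc hcR ψ' hψ'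
  have hmem : ∀ x : P, (x : Ω) ∈ (ψ.range.subgroupOf ψ.range).map ψ' := by
    intro x
    exact ⟨⟨ψ x, ⟨x, rfl⟩⟩, Subgroup.mem_subgroupOf.mpr ⟨x, rfl⟩, hψ'v x⟩
  have hle : P ≤ (ψ.range.subgroupOf ψ.range).map ψ' := fun x hx => hmem ⟨x, hx⟩
  have hres := restrict_mem X hle hχ
  have e : P.subtype.comp γ.toMonoidHom = χ.comp (Subgroup.inclusion hle) := by
    ext x
    show ((γ x : P) : Ω) = χ ⟨(x : Ω), hmem x⟩
    have hy : ψ' (Subgroup.inclusion (le_refl ψ.range) ⟨ψ x, ⟨x, rfl⟩⟩) ∈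
        (ψ.range.subgroupOf ψ.range).map ψ' :=
      ⟨⟨ψ x, ⟨x, rfl⟩⟩, Subgroup.mem_subgroupOf.mpr ⟨x, rfl⟩, rfl⟩
    have h1 := hχv ⟨ψ x, ⟨x, rfl⟩⟩ hy
    have h2 : χ ⟨(x : Ω), hmem x⟩ =
        χ ⟨ψ' (Subgroup.inclusion (le_refl ψ.range) ⟨ψ x, ⟨x, rfl⟩⟩), hy⟩ :=
      hom_congr_val χ (hmem x) hy (hψ'v x).symm
    rw [h2, h1]
    have h3 : ψ' ⟨c ⟨ψ x, ⟨x, rfl⟩⟩, hcR _⟩ = ψ' ⟨ψ (γ x), ⟨γ x, rfl⟩⟩ :=
      hom_congr_val ψ' _ _ (h x)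
    rw [h3, hψ'v]
  rw [e]; exact hres

end Cfsg.Agent.Helper25.OPE
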