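import Mathlib
import Cfsg.Agent.Lib.OPE.OPEDefs
import Cfsg.Agent.Lib.OPE.OPEPull

/-!
# S5142 piece OPE-OP: `p`-elements of `Aut_E(P)` lie in `Aut_{D'}(P)`; `O^{p'}(Aut_E(P)) ≤ Aut_{E ∩ D'}(P)`
`E` saturated over `T` and contained in `F`; `D'` invariant in `F` over `T`.
RECIPE for `op_mem`: copy the proof of `Helper25.mem_autGroup_of_orderOf`
(`Lib/Helper25/FusionPrimeIndex3.lean`, in `E` instead of `F`): `hE P hPT` gives `φ ∈ E.Hom P` onto a fully
automized `φ.range`; transport `γ` to `γ' := MulAut.congr (homEquiv E hφ) γ ∈ Aut_E(φ.range)` of the same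
order; Sylow (`(isFullyAutomized_iff E p _).mp hfa`, `.exists_conj_le`) gives `δ ∈ Aut_E(φ.range)` with
`δ γ' δ⁻¹ = c_g`, `g ∈ N_T(φ.range)` (`mem_autInducedBy_iff`).  Put `ψ := δ ∘ φ ∈ E.Hom P ⊆ F.Hom P`
(`hEF`), `ψ.range = φ.range`; `conjHom ψ.range g ∈ D'.Hom ψ.range` (`D'.conj_mem`); `c (ψ x) = ψ (γ x)`;
conclude by `pull_aut F D' hD'` and `mem_autGroup_iff D' hPT`.
`opPrime_le_interSys`: `OpPrime_eq_closure`, `Subgroup.closure_le`; for a generator use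
`mem_autGroup_iff (interSys E D') hPT`, `mem_interSys`, `op_mem`.  Aux names: prefix `opeop_`.
-/

set_option autoImplicit false

namespace Cfsg.Agent.Helper25.OPE

open Cfsg Cfsg.FusionSystem Cfsg.Agent.Helper25 Cfsg.Agent.Helper26 Cfsg.Agent.Helper3.PPrimeRes

variable {Ω : Type*} [Group Ω] {S : Subgroup Ω}

theorem op_mem [Finite S] (p : ℕ) [Fact p.Prime] (hS : IsPGroup p S) (F : FusionSystem S)
    {T : Subgroup Ω} (hTS : T ≤ S) (E D' : FusionSystem T) (hE : E.IsSaturated p)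
    (hEF : E.IsSubsystemOf F) (hD' : D'.IsInvariantIn F) {P : Subgroup Ω} (hPT : P ≤ T)
    {γ : MulAut P} (hγ : γ ∈ E.autGroup P) {k : ℕ} (hk : orderOf γ = p ^ k) :
    γ ∈ D'.autGroup P := by
  haveI : Finite T := finite_of_le_finite hTS
  obtain ⟨Q, ⟨φ, hφ, rfl⟩, hfa, -⟩ := hE P hPT
  have hRT : φ.range ≤ T := range_le E hφ
  haveI : Finite φ.range := finite_of_le_finite (hRT.trans hTS)
  have hγ' : MulAut.congr (homEquiv E hφ) γ ∈ E.autGroup φ.range := congr_mem_autGroup E hφ hγ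
  have hord : orderOf (MulAut.congr (homEquiv E hφ) γ) = p ^ k := by
    rw [← hk]; exact MulEquiv.orderOf_eq (MulAut.congr (homEquiv E hφ)) γ
  have hsyl := (isFullyAutomized_iff E p hRT).mp hfa
  have hpz : IsPGroup p (Subgroup.zpowers (MulAut.congr (homEquiv E hφ) γ)) := by
    apply IsPGroup.of_card (n := k)
    rw [Nat.card_zpowers, hord]
  obtain ⟨δ, hδ, hle⟩ := hsyl.exists_conj_le ((Subgroup.zpowers_le).mpr hγ') hpz
  have hmem : δ * MulAut.congr (homEquiv E hφ) γ * δ⁻¹ ∈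
      Cfsg.conjBy (Subgroup.zpowers (MulAut.congr (homEquiv E hφ) γ)) δ := by
    rw [mem_conjBy]
    have : δ⁻¹ * (δ * MulAut.congr (homEquiv E hφ) γ * δ⁻¹) * δ =
        MulAut.congr (homEquiv E hφ) γ := by
      group
    rw [this]
    exact Subgroup.mem_zpowers _
  obtain ⟨g, hg, hgv⟩ := (mem_autInducedBy_iff _).mp (hle hmem)
  -- ψ := δ ∘ φ
  have hδE := (mem_autGroup_iff E hRT δ).mp hδ
  obtain ⟨ψ, hψdef⟩ : ∃ ψ : P →* Ω, ψ = (φ.range.subtype.comp δ.toMonoidHom).comp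
      (φ.codRestrict φ.range fun x => ⟨x, rfl⟩) := ⟨_, rfl⟩
  have hψE : ψ ∈ E.Hom P := by rw [hψdef]; exact E.comp_mem hφ hδE _
  have hψ : ψ ∈ F.Hom P := hEF P hψE
  have hψv : ∀ x : P, ψ x = ((δ (homEquiv E hφ x) : φ.range) : Ω) := fun x => by
    rw [hψdef]; rfl
  have hψRT : ψ.range ≤ T := range_le E hψE
  have hc : conjHom ψ.range g ∈ D'.Hom ψ.range := D'.conj_mem hψRT hg
  have key : ∀ x : P, conjHom ψ.range g ⟨ψ x, ⟨x, rfl⟩⟩ = ψ (γ x) := by
    intro x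
    rw [conjHom_apply]
    show g * ψ x * g⁻¹ = ψ (γ x)
    rw [hψv, hψv]
    have h2 := hgv (δ (homEquiv E hφ x))
    rw [← h2]
    show ((δ ((MulAut.congr (homEquiv E hφ) γ) (δ⁻¹ (δ (homEquiv E hφ x)))) : φ.range) : Ω) = _
    rw [MulAut.inv_apply_self]
    show ((δ (homEquiv E hφ (γ ((homEquiv E hφ).symm (homEquiv E hφ x)))) : φ.range) : Ω) = _
    rw [MulEquiv.symm_apply_apply]
  rw [mem_autGroup_iff D' hPT]
  exact pull_aut F D' hD' hψ hc γ key

theorem opPrime_le_interSys [Finite S] (p : ℕ) [Fact p.Prime] (hS : IsPGroup p S)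
    (F : FusionSystem S) {T : Subgroup Ω} (hTS : T ≤ S) (E D' : FusionSystem T)
    (hE : E.IsSaturated p) (hEF : E.IsSubsystemOf F) (hD' : D'.IsInvariantIn F)
    {P : Subgroup Ω} (hPT : P ≤ T) : OpPrime E p P ≤ (interSys E D').autGroup P := by
  rw [OpPrime_eq_closure]
  refine (Subgroup.closure_le _).mpr ?_
  rintro γ ⟨hγ, k, hk⟩
  rw [SetLike.mem_coe, mem_autGroup_iff (interSys E D') hPT, mem_interSys]
  exact ⟨(mem_autGroup_iff E hPT γ).mp hγ,
    (mem_autGroup_iff D' hPT γ).mp (op_mem p hS F hTS E D' hE hEF hD' hPT hγ hk)⟩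

end Cfsg.Agent.Helper25.OPE
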