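import Mathlib
import Cfsg.Agent.Lib.OPE.OPEDefs

/-!
# S5142 piece OPE-CENT: centric subgroups of an invariant subsystem over `T` are centric in `F|_T`
`resSys F T hTS` (`Helper26.resSys`): the maps of `F` between subgroups of `T`.
RECIPE `isCentric_resSys`: a `resSys`-conjugate `Q'` of `Q` is `φ.range`, `φ ∈ F.Hom Q`, `Q ≤ T`.  Frattini
clause of `hinv` (4th component): `φ x = α (φ₀ x)`, `α ∈ F.autGroup T`, `φ₀ ∈ X.Hom Q`.  `φ₀.range` is an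
`X`-conjugate of `Q`, so `C_T(φ₀.range) ≤ φ₀.range`.  For `c ∈ C_T(Q')`: `α⁻¹ c ∈ C_T(φ₀.range)` (apply the
automorphism `α⁻¹` of `T` to `c * α y = α y * c`), hence `α⁻¹ c = φ₀ x` and `c = φ x ∈ Q'`.
`isCentric_of_resSys`: every `X`-conjugate is a `resSys`-conjugate (`hXF`, `X.le_of_mem`).
Aux names: prefix `opecent_`.
-/

set_option autoImplicit false

namespace Cfsg.Agent.Helper25.OPE

open Cfsg Cfsg.FusionSystem Cfsg.Agent.Helper25 Cfsg.Agent.Helper26 Cfsg.Agent.Helper3.PPrimeRes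

variable {Ω : Type*} [Group Ω] {S : Subgroup Ω}

theorem isCentric_resSys (F : FusionSystem S) {T : Subgroup Ω} (hTS : T ≤ S) (X : FusionSystem T)
    (hinv : X.IsInvariantIn F) {Q : Subgroup Ω} (hQ : X.IsCentric Q) :
    (resSys F T hTS).IsCentric Q := by
  obtain ⟨hQT, hcent⟩ := hQ
  refine ⟨hQT, ?_⟩
  rintro Q' ⟨φ, hφ, rfl⟩
  obtain ⟨hφF, -, hφT⟩ := hφ
  obtain ⟨α, -, φ₀, hφ₀, hfac⟩ := hinv.2.2.2 Q hQT φ hφF
  have hφ₀T : ∀ x : Q, φ₀ x ∈ T := (X.le_of_mem hφ₀).2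
  have hc0 : centralizerIn T φ₀.range ≤ φ₀.range := hcent φ₀.range ⟨φ₀, hφ₀, rfl⟩
  intro c hc
  have hcT : c ∈ T := hc.1
  have hcC : c ∈ Subgroup.centralizer (φ.range : Set Ω) := hc.2
  rw [Subgroup.mem_centralizer_iff] at hcC
  -- c' := α⁻¹ c
  have hc' : ((α.symm ⟨c, hcT⟩ : T) : Ω) ∈ centralizerIn T φ₀.range := by
    refine ⟨(α.symm ⟨c, hcT⟩ : T).2, ?_⟩
    show _ ∈ Subgroup.centralizer (φ₀.range : Set Ω)
    rw [Subgroup.mem_centralizer_iff]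
    rintro y ⟨x, rfl⟩
    have h1 : φ x * c = c * φ x := hcC (φ x) ⟨x, rfl⟩
    rw [hfac x (hφ₀T x)] at h1
    have h2 : α ⟨φ₀ x, hφ₀T x⟩ * ⟨c, hcT⟩ = ⟨c, hcT⟩ * α ⟨φ₀ x, hφ₀T x⟩ := Subtype.ext h1
    have h3 : α (⟨φ₀ x, hφ₀T x⟩ * α.symm ⟨c, hcT⟩) = α (α.symm ⟨c, hcT⟩ * ⟨φ₀ x, hφ₀T x⟩) := by
      rw [map_mul, map_mul, MulEquiv.apply_symm_apply]; exact h2
    have h4 := α.injective h3
    exact congrArg Subtype.val h4
  obtain ⟨x, hx⟩ := hc0 hc'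
  refine ⟨x, ?_⟩
  rw [hfac x (hφ₀T x)]
  have h5 : (⟨φ₀ x, hφ₀T x⟩ : T) = α.symm ⟨c, hcT⟩ := Subtype.ext hx
  rw [h5, MulEquiv.apply_symm_apply]

theorem isCentric_of_resSys (F : FusionSystem S) {T : Subgroup Ω} (hTS : T ≤ S) (X : FusionSystem T)
    (hXF : X.IsSubsystemOf F) {Q : Subgroup Ω} (hQ : (resSys F T hTS).IsCentric Q) :
    X.IsCentric Q := by
  obtain ⟨hQT, hcent⟩ := hQ
  refine ⟨hQT, ?_⟩
  rintro Q' ⟨φ, hφ, rfl⟩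
  exact hcent φ.range ⟨φ, ⟨hXF Q hφ, (X.le_of_mem hφ).1, (X.le_of_mem hφ).2⟩, rfl⟩

end Cfsg.Agent.Helper25.OPE
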