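import Mathlib
import Cfsg.Agent.Lib.OPE.OPEDefs

/-!
# S5142 piece OPE-POW: `a^i|N = Ε_i ∘ θ^i` with `Ε_i ∈ X`
`X` invariant in `F` over `T`, `a ∈ Aut_F(T)`, `N ≤ T`, `ε₁ ∈ X.Hom N`, `θ : MulAut N` with
`ε₁ (θ g) = a g` for `g ∈ N`.  Then for every `i` some `Ε ∈ X.Hom N` has `Ε (θ^i g) = a^i g`.
RECIPE.  Induction on `i`.  `i = 0`: `Ε := N.subtype` (`subtype_mem X hNT`).  Step: from `Ε` for `i`,
`hAI := (strongInv_of_isInvariantIn F X hinv).autInv hTS` (`Helper25.AutInv`) applied to `ha hNT hΕ` gives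
`χ ∈ X.Hom ((N.subgroupOf T).map (T.subtype.comp a.toMonoidHom))` with `χ (a x) = a (Ε x)` (`x ∈ N`).
`ε₁ g' = a (θ⁻¹ g')` lies in that image (`Helper25.mem_map_aut`), so `Ε' := χ ∘ ε₁ ∈ X.Hom N`
(`comp_mem' X hε₁ hχ _ (fun _ => rfl)`), and `Ε' (θ^(i+1) g) = χ (ε₁ (θ (θ^i g))) = χ (a (θ^i g))
= a (Ε (θ^i g)) = a (a^i g)` (`pow_succ'`; `Helper25.hom_congr_val` to rewrite the argument of `χ`).
Aux names: prefix `opepow_`.
-/

set_option autoImplicit false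

namespace Cfsg.Agent.Helper25.OPE

open Cfsg Cfsg.FusionSystem Cfsg.Agent.Helper25 Cfsg.Agent.Helper26 Cfsg.Agent.Helper3.PPrimeRes

variable {Ω : Type*} [Group Ω] {S : Subgroup Ω}

theorem pow_decomp (F : FusionSystem S) {T : Subgroup Ω} (hTS : T ≤ S) (X : FusionSystem T)
    (hinv : X.IsInvariantIn F) {a : MulAut T} (ha : a ∈ F.autGroup T) {N : Subgroup Ω}
    (hNT : N ≤ T) {ε₁ : N →* Ω} (hε₁ : ε₁ ∈ X.Hom N) (θ : MulAut N)
    (h : ∀ g : N, ε₁ (θ g) = resAut a N hNT g) :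
    ∀ i : ℕ, ∃ Ε ∈ X.Hom N, ∀ g : N, Ε ((θ ^ i) g) = resAut (a ^ i) N hNT g := by
  have hAI : AutInv F X := (strongInv_of_isInvariantIn hinv).autInv hTS
  intro i
  induction i with
  | zero =>
    refine ⟨N.subtype, subtype_mem X hNT, fun g => ?_⟩
    rw [pow_zero, pow_zero, resAut_apply]
    rfl
  | succ i ih =>
    obtain ⟨Ε, hΕ, hΕv⟩ := ih
    obtain ⟨χ, hχ, hχv⟩ := hAI ha hNT hΕ
    have hmem : ∀ g' : N, ε₁ g' ∈ (N.subgroupOf T).map (T.subtype.comp a.toMonoidHom) := by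
      intro g'
      have h1 := h (θ⁻¹ g')
      have h2 : θ (θ⁻¹ g') = g' := by
        show (θ * θ⁻¹) g' = g'
        rw [mul_inv_cancel]; rfl
      rw [h2] at h1
      rw [h1, resAut_apply]
      exact mem_map_aut hNT a (θ⁻¹ g')
    refine ⟨χ.comp (ε₁.codRestrict _ hmem), X.comp_mem hε₁ hχ hmem, fun g => ?_⟩
    have e1 : (θ ^ (i + 1)) g = θ ((θ ^ i) g) := by
      rw [pow_succ']; rfl
    have e2 : ε₁ ((θ ^ (i + 1)) g) = (((a ⟨((θ ^ i) g : N), hNT ((θ ^ i) g).2⟩ : T)) : Ω) := by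
      rw [e1, h, resAut_apply]
    show χ ⟨ε₁ ((θ ^ (i + 1)) g), hmem _⟩ = resAut (a ^ (i + 1)) N hNT g
    rw [hom_congr_val χ (hmem _) (mem_map_aut hNT a ((θ ^ i) g)) e2, hχv, resAut_apply]
    have e3 : (⟨Ε ((θ ^ i) g), (X.le_of_mem hΕ).2 ((θ ^ i) g)⟩ : T) = (a ^ i) ⟨g, hNT g.2⟩ := by
      apply Subtype.ext
      show Ε ((θ ^ i) g) = (((a ^ i) ⟨g, hNT g.2⟩ : T) : Ω)
      rw [hΕv, resAut_apply]
    rw [e3, pow_succ']
    rfl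

end Cfsg.Agent.Helper25.OPE
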