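import Mathlib
import Cfsg.Agent.Lib.OPE.OPEDefs
import Cfsg.Agent.Lib.OPE.OPECent

/-!
# S5142 piece OPE-THETA (done by helper15): the extension `ε₁` of `a|Q` to `N_T(Q)` in `X` and the correcting automorphism `θ`
`X` saturated and invariant in `F` over `T`, `a ∈ Aut_F(T)`, `Q` `X`-centric, `a|Q ∈ X.Hom Q`.
RECIPE (mirror `Helper26.restrict_normalizer_mem`, `Lib/Helper26/FusionCentric.lean`):
`ε := resAut a Q _`; `ε.range` is `X`-centric (`isCentric_of_isConj X hQ ⟨ε, hres, rfl⟩`), hence fully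
centralized (`isFullyCentralized_of_centric X X (fun _ _ h => h) _`) and receptive
(`isReceptive_of_fullyCentralized p hT X hX _`, `hT : IsPGroup p T := hS.to_le hTS`,
`Finite T := finite_of_le_finite hTS`); so `ε` extends to `χ ∈ X.Hom (extender T Q ε)`.
`normalizerIn T Q ≤ extender T Q ε` (`mem_extender_iff`; witness `h := a g`: `a (g x g⁻¹) = a g * a x * (a g)⁻¹`).
`ε₁ := χ` restricted to `N := normalizerIn T Q` (`restrict_mem X`).  Both `ε₁` and `resAut a N _` are maps of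
`resSys F T hTS` on `N` (`hinv.1`, `resAut_mem_of_mem_autGroup`, values in `T`) agreeing on `Q`; `Q` is
`resSys`-centric (`isCentric_resSys`); `Helper26.exists_aut_of_agree (resSys F T hTS)` yields `θ`.
Aux names: prefix `opetheta_`.
-/

set_option autoImplicit false

namespace Cfsg.Agent.Helper25.OPE

open Cfsg Cfsg.FusionSystem Cfsg.Agent.Helper25 Cfsg.Agent.Helper26 Cfsg.Agent.Helper3.PPrimeRes

variable {Ω : Type*} [Group Ω] {S : Subgroup Ω}

theorem exists_theta [Finite S] (p : ℕ) [Fact p.Prime] (hS : IsPGroup p S) (F : FusionSystem S)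
    {T : Subgroup Ω} (hTS : T ≤ S) (X : FusionSystem T) (hX : X.IsSaturated p)
    (hinv : X.IsInvariantIn F) {a : MulAut T} (ha : a ∈ F.autGroup T) {Q : Subgroup Ω}
    (hQ : X.IsCentric Q) (hres : resAut a Q hQ.1 ∈ X.Hom Q) :
    ∃ ε₁ ∈ X.Hom (normalizerIn T Q), ∃ θ : MulAut ↥(normalizerIn T Q),
      (∀ g : ↥(normalizerIn T Q), ε₁ (θ g) = resAut a (normalizerIn T Q) normalizerIn_le g) ∧
      (∀ x : Q, θ (Subgroup.inclusion (le_normalizerIn hQ.1) x) =
        Subgroup.inclusion (le_normalizerIn hQ.1) x) ∧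
      ∀ g : ↥(normalizerIn T Q), ∃ u : Q, θ g = g * Subgroup.inclusion (le_normalizerIn hQ.1) u := by
  have hfinT : Finite T := finite_of_le_finite hTS
  have hT : IsPGroup p T := hS.to_le hTS
  have hQT : Q ≤ T := hQ.1
  have hQN : Q ≤ normalizerIn T Q := le_normalizerIn hQ.1
  have hNT : normalizerIn T Q ≤ T := normalizerIn_le
  -- the image of `Q` is receptive in `X`
  have hcenr : X.IsCentric (resAut a Q hQ.1).range :=
    isCentric_of_isConj X hQ ⟨resAut a Q hQ.1, hres, rfl⟩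
  have hfc : X.IsFullyCentralized (resAut a Q hQ.1).range :=
    isFullyCentralized_of_centric X X (fun _ _ h => h) hcenr
  have hrec : X.IsReceptive (resAut a Q hQ.1).range :=
    isReceptive_of_fullyCentralized p hT X hX hfc
  obtain ⟨χ, hχ, hext⟩ := hrec.2 Q (resAut a Q hQ.1) hres rfl
  have hNext : normalizerIn T Q ≤ extender T Q (resAut a Q hQ.1) := by
    intro g hg
    rw [mem_extender_iff]
    refine ⟨hg.1, hg.2, ((a ⟨g, hg.1⟩ : T) : Ω), (a ⟨g, hg.1⟩ : T).2, fun x hx => ?_⟩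
    have e : (⟨g * (x : Ω) * g⁻¹, hQT hx⟩ : T) = ⟨g, hg.1⟩ * ⟨x, hQT x.2⟩ * (⟨g, hg.1⟩ : T)⁻¹ :=
      Subtype.ext rfl
    show ((a ⟨g * (x : Ω) * g⁻¹, hQT hx⟩ : T) : Ω) =
      ((a ⟨g, hg.1⟩ : T) : Ω) * ((a ⟨x, hQT x.2⟩ : T) : Ω) * ((a ⟨g, hg.1⟩ : T) : Ω)⁻¹
    rw [e, map_mul, map_mul, map_inv]
    rfl
  have hε₁ : χ.comp (Subgroup.inclusion hNext) ∈ X.Hom (normalizerIn T Q) :=
    restrict_mem X hNext hχ
  -- both maps are maps of `resSys F T hTS` on `N_T(Q)`
  have hε₁R : χ.comp (Subgroup.inclusion hNext) ∈ (resSys F T hTS).Hom (normalizerIn T Q) :=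
    ⟨hinv.1 _ hε₁, hNT, (X.le_of_mem hε₁).2⟩
  have hρR : resAut a (normalizerIn T Q) normalizerIn_le ∈
      (resSys F T hTS).Hom (normalizerIn T Q) :=
    ⟨resAut_mem_of_mem_autGroup F hTS ha _ normalizerIn_le, hNT,
      fun x => resAut_mem_T a _ normalizerIn_le x⟩
  have hagree : ∀ x : Q, (χ.comp (Subgroup.inclusion hNext))
      (Subgroup.inclusion (le_normalizerIn hQ.1) x) =
      resAut a (normalizerIn T Q) normalizerIn_le (Subgroup.inclusion (le_normalizerIn hQ.1) x) := by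
    intro x
    have h1 := hext x x.2 (hNext (hQN x.2))
    have h2 : (χ.comp (Subgroup.inclusion hNext)) (Subgroup.inclusion (le_normalizerIn hQ.1) x) =
        χ ⟨x, hNext (hQN x.2)⟩ := rfl
    rw [h2, h1]
    rfl
  have hnorm : ∀ g ∈ normalizerIn T Q, ∀ x ∈ Q, g * x * g⁻¹ ∈ Q := by
    intro g hg x hx
    exact (Subgroup.mem_normalizer_iff.mp hg.2 x).mp hx
  have hcenR : (resSys F T hTS).IsCentric Q := isCentric_resSys F hTS X hinv hQ
  obtain ⟨θ, -, hθ1, hθ2, hθ3⟩ := exists_aut_of_agree (resSys F T hTS) (le_normalizerIn hQ.1)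
    hnorm hcenR hε₁R hρR hagree
  exact ⟨χ.comp (Subgroup.inclusion hNext), hε₁, θ, hθ1, hθ2, hθ3⟩

end Cfsg.Agent.Helper25.OPE
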