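import Mathlib
import Cfsg.Agent.Lib.OPE.OPEDefs
import Cfsg.Agent.Lib.OPE.OPETheta
import Cfsg.Agent.Lib.OPE.OPEPow

/-!
# S5142 piece OPE-STEP: one step up the normalizer tower
`a ∈ Aut_F(T)` with `a ^ m = 1`, `p ∤ m`; `Q` `X`-centric with `a|Q ∈ X` ⟹ `a|N_T(Q) ∈ X`.
RECIPE.  `N := normalizerIn T Q`.  `exists_theta` gives `ε₁`, `θ` with `ε₁ (θ g) = a g`, `θ` fixes `Q`, and
`θ g = g * u`, `u ∈ Q`.  (1) `θ ^ (Nat.card N) = 1`: `Helper26.aut_pow_apply_mul θ hu (hfix u) k` gives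
`(θ^k) g = g * u^k`; `pow_card_eq_one'`.  `Nat.card N = p ^ e` (`IsPGroup.exists_card_eq`).
(2) `pow_decomp` at `i = m`: `Ε ((θ^m) g) = g` (`ham`), so `N.subtype.comp ((θ^m)⁻¹).toMonoidHom = Ε ∈ X.Hom N`,
i.e. `(θ^m)⁻¹ ∈ X.autGroup N` (`mem_autGroup_iff X hNT`), so `θ^m ∈ X.autGroup N`.
(3) `m` and `p^e` coprime: `θ = (θ^m)^j` for some `j` (`Nat.exists_mul_emod_eq_one_of_coprime` or
`Nat.Coprime` Bézout + `zpow`; or `pow_eq_pow_iff_modEq`-style with `orderOf θ ∣ p^e`), so `θ ∈ X.autGroup N`.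
(4) `resAut a N _ = ε₁ ∘ θ`: `comp_mem' X ((mem_autGroup_iff X hNT θ).mp hθ) hε₁ _ _`.
Aux names: prefix `opestep_`.
-/

set_option autoImplicit false

namespace Cfsg.Agent.Helper25.OPE

open Cfsg Cfsg.FusionSystem Cfsg.Agent.Helper25 Cfsg.Agent.Helper26 Cfsg.Agent.Helper3.PPrimeRes

variable {Ω : Type*} [Group Ω] {S : Subgroup Ω}

theorem opestep_pow_fixed {P : Type*} [Group P] (β : MulAut P) {y : P} (hy : β y = y) (m : ℕ) :
    (β ^ m) y = y := by
  induction m with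
  | zero => simp
  | succ m ih => rw [pow_succ, MulAut.mul_apply, hy, ih]

theorem opestep_pow_mul {P : Type*} [Group P] (β : MulAut P) {x y : P} (hx : β x = x * y)
    (hy : β y = y) (m : ℕ) : (β ^ m) x = x * y ^ m := by
  induction m with
  | zero => simp
  | succ m ih =>
    rw [pow_succ, MulAut.mul_apply, hx, map_mul, ih, opestep_pow_fixed β hy, pow_succ, mul_assoc]

theorem step [Finite S] (p : ℕ) [Fact p.Prime] (hS : IsPGroup p S) (F : FusionSystem S)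
    {T : Subgroup Ω} (hTS : T ≤ S) (X : FusionSystem T) (hX : X.IsSaturated p)
    (hinv : X.IsInvariantIn F) {a : MulAut T} (ha : a ∈ F.autGroup T) {m : ℕ} (hm : m.Coprime p)
    (ham : a ^ m = 1) {Q : Subgroup Ω} (hQ : X.IsCentric Q) (hres : resAut a Q hQ.1 ∈ X.Hom Q) :
    resAut a (normalizerIn T Q) normalizerIn_le ∈ X.Hom (normalizerIn T Q) := by
  have hNT : normalizerIn T Q ≤ T := normalizerIn_le
  have : Finite (normalizerIn T Q) := finite_of_le_finite (hNT.trans hTS)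
  obtain ⟨ε₁, hε₁, θ, hεθ, hfix, hmove⟩ := exists_theta p hS F hTS X hX hinv ha hQ hres
  obtain ⟨e, he⟩ := IsPGroup.exists_card_eq (hS.to_le (hNT.trans hTS))
  have hpow : θ ^ (p ^ e) = 1 := by
    ext g
    obtain ⟨u, hu⟩ := hmove g
    have h1 := opestep_pow_mul θ hu (hfix u) (p ^ e)
    rw [← he, pow_card_eq_one', mul_one, he] at h1
    rw [h1]; rfl
  obtain ⟨Ε, hΕ, hΕe⟩ := pow_decomp F hTS X hinv ha hNT hε₁ θ hεθ m
  have hΕ' : ∀ g : ↥(normalizerIn T Q), Ε ((θ ^ m) g) = (g : Ω) := by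
    intro g
    rw [hΕe, ham]
    rfl
  have hinvmem : (θ ^ m)⁻¹ ∈ X.autGroup (normalizerIn T Q) := by
    rw [mem_autGroup_iff X hNT]
    have h2 : (normalizerIn T Q).subtype.comp ((θ ^ m)⁻¹).toMonoidHom = Ε := by
      ext g
      have h3 := hΕ' ((θ ^ m)⁻¹ g)
      rw [MulAut.apply_inv_self] at h3
      rw [h3]
      rfl
    rw [h2]; exact hΕ
  have hθm : θ ^ m ∈ X.autGroup (normalizerIn T Q) := by
    have h4 := (X.autGroup (normalizerIn T Q)).inv_mem hinvmem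
    rwa [inv_inv] at h4
  have hθ : θ ∈ X.autGroup (normalizerIn T Q) := by
    have hcop : Nat.Coprime m (p ^ e) := Nat.Coprime.pow_right e hm
    have hord : orderOf θ ∣ p ^ e := orderOf_dvd_of_pow_eq_one hpow
    have hcop2 : Nat.Coprime m (orderOf θ) := Nat.Coprime.coprime_dvd_right hord hcop
    obtain ⟨j, hj⟩ := exists_pow_eq_self_of_coprime hcop2
    rw [← hj]
    exact Subgroup.pow_mem _ hθm j
  refine comp_mem' X ((mem_autGroup_iff X hNT θ).mp hθ) hε₁ (fun g => (θ g).2) (fun g => ?_)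
  exact (hεθ g).symm

end Cfsg.Agent.Helper25.OPE
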