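import Mathlib
import Cfsg.Agent.Lib.OPE.OPEDefs
import Cfsg.Agent.Lib.OPE.OPEStep

/-!
# S5142 piece OPE-STAR: a `p'`-order automorphism of `T` in `F` whose restriction to a centric subgroup
lies in `X` lies in `Aut_X(T)`
RECIPE (mirror `Helper26.mem_of_restrict_mem_centric`): strong induction on `Nat.card T - Nat.card Q`.
`Q = T`: `resAut_top_mem_iff` (after `subst`; the two proofs of `T ≤ T` agree by proof irrelevance).
`Q ≠ T`: `step` gives `a|N_T(Q) ∈ X`; `N_T(Q)` is `X`-centric (`Helper26.isCentric_of_le X (le_normalizerIn hQ.1)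
normalizerIn_le hQ`) and strictly bigger (`exists_mem_normalizerIn_not_mem (hS.to_le hTS) hQ.1 hne`, as in the
model proof); apply the induction hypothesis.  Aux names: prefix `opestar_`.
-/

set_option autoImplicit false
set_option linter.style.haveILetI false

namespace Cfsg.Agent.Helper25.OPE

open Cfsg Cfsg.FusionSystem Cfsg.Agent.Helper25 Cfsg.Agent.Helper26 Cfsg.Agent.Helper3.PPrimeRes

variable {Ω : Type*} [Group Ω] {S : Subgroup Ω}

theorem star [Finite S] (p : ℕ) [Fact p.Prime] (hS : IsPGroup p S) (F : FusionSystem S)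
    {T : Subgroup Ω} (hTS : T ≤ S) (X : FusionSystem T) (hX : X.IsSaturated p)
    (hinv : X.IsInvariantIn F) {a : MulAut T} (ha : a ∈ F.autGroup T) {m : ℕ} (hm : m.Coprime p)
    (ham : a ^ m = 1) {Q : Subgroup Ω} (hQ : X.IsCentric Q) (hres : resAut a Q hQ.1 ∈ X.Hom Q) :
    a ∈ X.autGroup T := by
  haveI : Finite T := finite_of_le_finite hTS
  have hTp : IsPGroup p T := hS.to_le hTS
  have main : ∀ n : ℕ, ∀ (Q : Subgroup Ω) (hQ : X.IsCentric Q),
      resAut a Q hQ.1 ∈ X.Hom Q → Nat.card T - Nat.card Q = n → a ∈ X.autGroup T := by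
    intro n
    induction n using Nat.strong_induction_on with
    | _ n ih =>
      intro Q hQ hres hn
      by_cases hQeq : Q = T
      · have hQeq' : T = Q := hQeq.symm
        subst hQeq'
        exact (resAut_top_mem_iff X a).mp hres
      · have hstep := step p hS F hTS X hX hinv ha hm ham hQ hres
        have hNT : normalizerIn T Q ≤ T := normalizerIn_le
        have hQN : Q ≤ normalizerIn T Q := le_normalizerIn hQ.1
        have hNcen : X.IsCentric (normalizerIn T Q) :=
          Cfsg.Agent.Helper26.isCentric_of_le X hQN hNT hQ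
        obtain ⟨g, hgN, hgQ⟩ := exists_mem_normalizerIn_not_mem hTp hQ.1 hQeq
        have hlt : Nat.card Q < Nat.card (normalizerIn T Q) := by
          haveI : Finite (normalizerIn T Q) := finite_of_le_finite (hNT.trans hTS)
          apply Nat.lt_of_not_le
          intro hcard
          have h := Subgroup.eq_of_le_of_card_ge hQN hcard
          exact hgQ (h ▸ hgN)
        have hle2 : Nat.card (normalizerIn T Q) ≤ Nat.card T := Subgroup.card_le_of_le hNT
        exact ih (Nat.card T - Nat.card (normalizerIn T Q)) (by omega) _ hNcen hstep rfl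
  exact main _ Q hQ hres rfl

end Cfsg.Agent.Helper25.OPE
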