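import Mathlib
import Cfsg.Agent.Lib.OPE.OPEDefs
import Cfsg.Agent.Lib.OPE.OPEOp
import Cfsg.Agent.Lib.OPE.OPECent
import Cfsg.Agent.Lib.OPE.OPEStar

/-!
# S5142 piece OPE-STARG: `α ∈ Aut_E(T)` whose restriction to an `E`-centric `Q` lies in `D'` lies in `Aut_{D'}(T)`
RECIPE.  `MulAut T` is finite (`Finite T`); `n := orderOf α = p^e * m`, `p ∤ m`
(`Nat.exists_eq_pow_mul_and_not_dvd`).  Bézout: `α = α_p * α_q` with `α_p := α ^ (m * u)`, `α_q := α ^ (p^e * v)`,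
`m * u + p^e * v ≡ 1 [MOD n]` (or use `zpow` and `Int.gcd_eq_gcd_ab`).  `α_p ^ (p^e) = 1`, so
`orderOf α_p = p^k` (`Nat.dvd_prime_pow`), `α_p ∈ E.autGroup T`, hence `α_p ∈ D'.autGroup T` by `op_mem`
(`P := T`).  `α_q ^ m = 1`; `α_q ∈ F.autGroup T` (`mem_autGroup_iff` twice + `hEinv.1`).
`resAut α_q Q _ ∈ D'.Hom Q`: `α_q = α_p⁻¹ * α`; `comp_mem' D' hres ((mem_autGroup_iff D' le_rfl _).mp _) (resAut_mem_T ..)`.
`Q` is `D'`-centric: `isCentric_of_resSys F hTS D' hD'inv.1 (isCentric_resSys F hTS E hEinv hQ)`.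
`star` (with `X := D'`) gives `α_q ∈ D'.autGroup T`; `mul_mem`.  Aux names: prefix `opestarg_`.
-/

set_option autoImplicit false

namespace Cfsg.Agent.Helper25.OPE

open Cfsg Cfsg.FusionSystem Cfsg.Agent.Helper25 Cfsg.Agent.Helper26 Cfsg.Agent.Helper3.PPrimeRes

variable {Ω : Type*} [Group Ω] {S : Subgroup Ω}

theorem star_gen [Finite S] (p : ℕ) [Fact p.Prime] (hS : IsPGroup p S) (F : FusionSystem S)
    {T : Subgroup Ω} (hTS : T ≤ S) (E D' : FusionSystem T) (hE : E.IsSaturated p)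
    (hEinv : E.IsInvariantIn F) (hD' : D'.IsSaturated p) (hD'inv : D'.IsInvariantIn F)
    {α : MulAut T} (hα : α ∈ E.autGroup T) {Q : Subgroup Ω} (hQ : E.IsCentric Q)
    (hres : resAut α Q hQ.1 ∈ D'.Hom Q) : α ∈ D'.autGroup T := by
  have hpp : p.Prime := Fact.out
  have hTfin : Finite T := Finite.of_injective (Subgroup.inclusion hTS) (Subgroup.inclusion_injective hTS)
  have hn : 0 < orderOf α := orderOf_pos α
  obtain ⟨e, m, hpm, hnm⟩ := Nat.exists_eq_pow_mul_and_not_dvd hn.ne' p hpp.ne_one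
  have hcop : Nat.Coprime m p := ((Nat.Prime.coprime_iff_not_dvd hpp).mpr hpm).symm
  have hcop' : Nat.Coprime m (p ^ e) := hcop.pow_right e
  -- Bezout
  have hb := Int.gcd_eq_gcd_ab (m : ℤ) ((p ^ e : ℕ) : ℤ)
  rw [Int.gcd_natCast_natCast, hcop'] at hb
  set x : ℤ := Int.gcdA (m : ℤ) ((p ^ e : ℕ) : ℤ) with hx
  set y : ℤ := Int.gcdB (m : ℤ) ((p ^ e : ℕ) : ℤ) with hy
  -- the `p`-part and the `p'`-part
  set ap : MulAut T := (α ^ m) ^ x with hap
  set aq : MulAut T := (α ^ (p ^ e)) ^ y with haq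
  have hprod : α = ap * aq := by
    have h1 : α = α ^ ((m : ℤ) * x + ((p ^ e : ℕ) : ℤ) * y) := by
      rw [← hb]
      simp
    rw [zpow_add, zpow_mul, zpow_mul, zpow_natCast, zpow_natCast] at h1
    exact h1
  have hαn : α ^ (m * p ^ e) = 1 := by
    rw [mul_comm, ← hnm]
    exact pow_orderOf_eq_one α
  have hap_pow : ap ^ (p ^ e) = 1 := by
    rw [hap, ← zpow_natCast, ← zpow_mul, mul_comm, zpow_mul, zpow_natCast, ← pow_mul, hαn, one_zpow]
  have haq_pow : aq ^ m = 1 := by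
    rw [haq, ← zpow_natCast, ← zpow_mul, mul_comm, zpow_mul, zpow_natCast, ← pow_mul, mul_comm, hαn,
      one_zpow]
  have hapE : ap ∈ E.autGroup T := Subgroup.zpow_mem _ (Subgroup.pow_mem _ hα m) x
  have haqE : aq ∈ E.autGroup T := Subgroup.zpow_mem _ (Subgroup.pow_mem _ hα (p ^ e)) y
  -- the `p`-part lies in `D'`
  obtain ⟨k, -, hk⟩ := (Nat.dvd_prime_pow hpp).mp (orderOf_dvd_of_pow_eq_one hap_pow)
  have hapD : ap ∈ D'.autGroup T :=
    op_mem p hS F hTS E D' hE hEinv.1 hD'inv (le_refl T) hapE hk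
  -- the `p'`-part lies in `Aut_F(T)`
  have haqF : aq ∈ F.autGroup T := by
    rw [mem_autGroup_iff F hTS]
    exact hEinv.1 T ((mem_autGroup_iff E le_rfl aq).mp haqE)
  -- its restriction to `Q` lies in `D'`
  have haq_eq : aq = ap⁻¹ * α := by
    rw [hprod]
    group
  have hQD : D'.IsCentric Q :=
    isCentric_of_resSys F hTS D' hD'inv.1 (isCentric_resSys F hTS E hEinv hQ)
  have hresq : resAut aq Q hQD.1 ∈ D'.Hom Q := by
    refine comp_mem' D' hres ((mem_autGroup_iff D' le_rfl ap⁻¹).mp (inv_mem hapD))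
      (fun z => resAut_mem_T α Q hQ.1 z) ?_
    intro z
    rw [resAut_apply, haq_eq]
    rfl
  have haqD : aq ∈ D'.autGroup T := star p hS F hTS D' hD' hD'inv haqF hcop haq_pow hQD hresq
  rw [hprod]
  exact mul_mem hapD haqD

end Cfsg.Agent.Helper25.OPE
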