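import Mathlib
import Cfsg.Agent.Lib.OPE.OPEDefs
import Cfsg.Agent.Lib.OPE.OPEOp
import Cfsg.Agent.Lib.OPE.OPEStarG
import Cfsg.Agent.S5114

/-!
# S5142 piece OPE-ADM: `E ∩ D'` is admissible in `E`
RECIPE.  `le`: `fun _ _ h => h.1`.  `op`: `opPrime_le_interSys … hPc.1`.
`ext R ψ hψ P hPR hPc h`: `Cfsg.Agent.S5114.result p hT E hE (interSys E D') (fun _ _ h => h.1)
(fun P hPc => opPrime_le_interSys … hPc.1)` (`hT := hS.to_le hTS`, `Finite T`; `OpPrime` unfolds to the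
expression in S5114) gives, for `ψ`, `α ∈ E.autGroup T`, `ψ₀ ∈ (interSys E D').Hom R` with
`ψ x = α ⟨ψ₀ x, _⟩`.  Let `ψ₀' := ψ₀.comp (inclusion hPR)`, `P₀ := ψ₀'.range` — `E`-centric
(`isCentric_of_isConj E hPc ⟨ψ₀', restrict_mem E hPR hψ₀.1, rfl⟩`).  `resAut α P₀ _ ∈ D'.Hom P₀`: take the inverse
`κ ∈ D'.Hom P₀` of `ψ₀'` (`D'.inv_mem`), then `comp_mem' D' hκ h.2 …` (`resAut α P₀ (ψ₀ x) = ψ x`).  `star_gen` gives
`α ∈ D'.autGroup T`; `ψ ∈ D'.Hom R` by `comp_mem' D' hψ₀.2 ((mem_autGroup_iff D' le_rfl α).mp _) …`; with `hψ`: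
`ψ ∈ (interSys E D').Hom R`.  Aux names: prefix `opeadm_`.
-/

set_option autoImplicit false

namespace Cfsg.Agent.Helper25.OPE

open Cfsg Cfsg.FusionSystem Cfsg.Agent.Helper25 Cfsg.Agent.Helper26 Cfsg.Agent.Helper3.PPrimeRes

variable {Ω : Type*} [Group Ω] {S : Subgroup Ω}

theorem adm_interSys [Finite S] (p : ℕ) [Fact p.Prime] (hS : IsPGroup p S) (F : FusionSystem S)
    {T : Subgroup Ω} (hTS : T ≤ S) (E D' : FusionSystem T) (hE : E.IsSaturated p)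
    (hEinv : E.IsInvariantIn F) (hD' : D'.IsSaturated p) (hD'inv : D'.IsInvariantIn F) :
    Adm E p (interSys E D') := by
  have hT : IsPGroup p T := hS.to_le hTS
  haveI : Finite T := Finite.of_injective (Subgroup.inclusion hTS) (Subgroup.inclusion_injective hTS)
  have hsub : (interSys E D').IsSubsystemOf E := fun _ _ h => h.1
  have hop : ∀ P : Subgroup Ω, E.IsCentric P → OpPrime E p P ≤ (interSys E D').autGroup P :=
    fun P hPc => opPrime_le_interSys p hS F hTS E D' hE hEinv.1 hD'inv hPc.1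
  refine ⟨fun _ _ h => h.1, hop, ?_⟩
  intro R ψ hψ P hPR hPc h
  obtain ⟨-, hdec, -⟩ := Cfsg.Agent.S5114.result p hT E hE (interSys E D') hsub hop
  obtain ⟨α, hα, ψ₀, hψ₀, hfac⟩ := hdec R ψ hψ
  have hψ₀T : ∀ x : R, ψ₀ x ∈ T := (E.le_of_mem hψ₀.1).2
  have hψ₀'E : ψ₀.comp (Subgroup.inclusion hPR) ∈ E.Hom P := restrict_mem E hPR hψ₀.1
  have hψ₀'D : ψ₀.comp (Subgroup.inclusion hPR) ∈ D'.Hom P := restrict_mem D' hPR hψ₀.2
  have hP₀c : E.IsCentric (ψ₀.comp (Subgroup.inclusion hPR)).range :=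
    isCentric_of_isConj E hPc ⟨_, hψ₀'E, rfl⟩
  obtain ⟨κ, hκ, hκinv⟩ := D'.inv_mem hψ₀'D
  have hκP : ∀ y : (ψ₀.comp (Subgroup.inclusion hPR)).range, κ y ∈ P := by
    rintro ⟨_, x, rfl⟩
    rw [hκinv x]
    exact x.2
  have hres : resAut α (ψ₀.comp (Subgroup.inclusion hPR)).range hP₀c.1 ∈
      D'.Hom (ψ₀.comp (Subgroup.inclusion hPR)).range := by
    refine comp_mem' D' hκ h.2 hκP ?_
    rintro ⟨_, x, rfl⟩
    have e1 : (⟨κ ⟨(ψ₀.comp (Subgroup.inclusion hPR)) x, ⟨x, rfl⟩⟩, hκP ⟨_, ⟨x, rfl⟩⟩⟩ : P) = x :=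
      Subtype.ext (hκinv x)
    rw [e1, resAut_apply]
    exact (hfac (Subgroup.inclusion hPR x) (hψ₀T _)).symm
  have hαD : α ∈ D'.autGroup T := star_gen p hS F hTS E D' hE hEinv hD' hD'inv hα hP₀c hres
  have hψD : ψ ∈ D'.Hom R :=
    comp_mem' D' hψ₀.2 ((mem_autGroup_iff D' le_rfl α).mp hαD) hψ₀T
      (fun x => hfac x (hψ₀T x))
  exact ⟨hψ, hψD⟩

end Cfsg.Agent.Helper25.OPE
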